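import Mathlib

/-!
# Free amalgams of field extensions

Two extensions `L₁`, `L₂` of a field `Kx`, each algebraic over the compositum of `Kx` and a subfield `Kᵢ`, are
embedded in a common field in which a transcendence basis of `Kx/K` stays independent over the subfield generated
by `K₁` and `K₂`.
-/

set_option autoImplicit false
set_option linter.style.haveILetI false

universe u

open Set Function MvPolynomial

namespace Groth.Agent.H25Trdeg

variable {K Kx K1 L1 : Type u} [Field K] [Field Kx] [Field K1] [Field L1] [Algebra K Kx] [Algebra K K1]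
  [Algebra Kx L1] [Algebra K1 L1] [Algebra K L1] [IsScalarTower K Kx L1] [IsScalarTower K K1 L1]
  {ι A : Type u} {t : ι → Kx} {a : A → K1}

theorem isAlgebraic_of_le {k k' B : Type u} [CommRing k] [CommRing k'] [CommRing B] [Algebra k B]
    [Algebra k' B] (S : Subalgebra k B) (S' : Subalgebra k' B) (hle : ∀ x ∈ S, x ∈ S') {y : B}
    (hy : IsAlgebraic S y) : IsAlgebraic S' y := by
  let f : S →+* S' := RingHom.codRestrict S.val.toRingHom S' fun w => hle w.1 w.2
  have hf : Injective f := fun w w' h => Subtype.ext (congr_arg Subtype.val h :)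
  exact IsAlgebraic.ringHom_of_comp_eq (f := f) (g := RingHom.id B) hy hf (RingHom.ext fun _ => rfl)

/-- An `R`-algebra map restricted to subalgebras preserves algebraicity. -/
theorem isAlgebraic_map {k B B' : Type u} [CommRing k] [Field B] [Field B'] [Algebra k B] [Algebra k B']
    (f : B →ₐ[k] B') (S : Subalgebra k B) (S' : Subalgebra k B') (hle : ∀ x ∈ S, f x ∈ S') {y : B}
    (hy : IsAlgebraic S y) : IsAlgebraic S' (f y) := by
  let ψ : S →+* S' := RingHom.codRestrict (f.comp S.val).toRingHom S' fun w => hle w.1 w.2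
  have hψ : Injective ψ := fun w w' h =>
    Subtype.ext (f.toRingHom.injective (congr_arg Subtype.val h :))
  exact IsAlgebraic.ringHom_of_comp_eq (f := ψ) (g := f.toRingHom) hy hψ (RingHom.ext fun _ => rfl)

/-- An embedding of subalgebras preserves algebraic independence. -/
theorem algebraicIndependent_of_map {k B B' : Type u} [CommRing k] [Field B] [Field B'] [Algebra k B]
    [Algebra k B'] (f : B →ₐ[k] B') (S : Subalgebra k B) (S' : Subalgebra k B')
    (hle : ∀ x ∈ S, f x ∈ S') [Algebra S B'] (hS : ∀ x : S, algebraMap S B' x = f x) {ι : Type u}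
    {v : ι → B'} (hv : AlgebraicIndependent S' v) : AlgebraicIndependent S v := by
  let ψ : S →+* S' := RingHom.codRestrict (f.comp S.val).toRingHom S' fun w => hle w.1 w.2
  have hψ : Injective ψ := fun w w' h =>
    Subtype.ext (f.toRingHom.injective (congr_arg Subtype.val h :))
  exact AlgebraicIndependent.of_ringHom_of_comp_eq (f := ψ) (g := RingHom.id B') hv hψ
    (RingHom.ext fun x => (hS x).symm)

/-- A transcendence basis of `K1/K` is one of `L1/Kx`. -/
theorem isTranscendenceBasis_swap (ht : IsTranscendenceBasis K t) (ha : IsTranscendenceBasis K a)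
    (ht1 : IsTranscendenceBasis K1 (algebraMap Kx L1 ∘ t)) :
    IsTranscendenceBasis Kx (algebraMap K1 L1 ∘ a) := by
  have hsum : IsTranscendenceBasis K (Sum.elim (algebraMap Kx L1 ∘ t) (algebraMap K1 L1 ∘ a)) :=
    ha.sumElim_comp ht1
  have hswap : AlgebraicIndependent K (Sum.elim (algebraMap K1 L1 ∘ a) (algebraMap Kx L1 ∘ t)) := by
    have := hsum.1.comp (Equiv.sumComm _ _) (Equiv.sumComm _ _).injective
    convert this using 1
    funext i; cases i <;> rfl
  have hind := (AlgebraicIndependent.sumElim_iff.mp hswap).2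
  have hmem : ∀ x ∈ Algebra.adjoin K (range t), IsScalarTower.toAlgHom K Kx L1 x ∈
      Algebra.adjoin K (range (algebraMap Kx L1 ∘ t)) := fun x hx => by
    have h : IsScalarTower.toAlgHom K Kx L1 x ∈
        (Algebra.adjoin K (range t)).map (IsScalarTower.toAlgHom K Kx L1) := ⟨_, hx, rfl⟩
    rw [← Algebra.adjoin_image, ← range_comp] at h
    exact h
  have hind' : AlgebraicIndependent (Algebra.adjoin K (range t)) (algebraMap K1 L1 ∘ a) :=
    algebraicIndependent_of_map (IsScalarTower.toAlgHom K Kx L1) _ _ hmem (fun x => rfl) hind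
  haveI := ht.isAlgebraic
  have h1 : AlgebraicIndependent Kx (algebraMap K1 L1 ∘ a) := hind'.extendScalars Kx
  rw [h1.isTranscendenceBasis_iff_isAlgebraic]
  refine ⟨fun y => ?_⟩
  refine isAlgebraic_of_le (B := L1) _ (Algebra.adjoin Kx (range (algebraMap K1 L1 ∘ a)))
    (fun x hx => ?_) (hsum.isAlgebraic.isAlgebraic y)
  induction hx using Algebra.adjoin_induction with
  | mem x hx =>
    rcases hx with ⟨i | i, rfl⟩
    · simp only [Sum.elim_inl, Function.comp_apply]
      exact Subalgebra.algebraMap_mem _ (t i)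
    · simp only [Sum.elim_inr]
      exact Algebra.subset_adjoin (mem_range_self i)
  | algebraMap c =>
    rw [IsScalarTower.algebraMap_apply K Kx L1]
    exact Subalgebra.algebraMap_mem _ _
  | add x y _ _ hx hy => exact add_mem hx hy
  | mul x y _ _ hx hy => exact mul_mem hx hy

/-- Embedding of `L1` into an algebraically closed field with prescribed values on a transcendence basis of
`L1/Kx`; the image of `K1` is algebraic over those values. -/
theorem exists_embedding (ht : IsTranscendenceBasis K t) (ha : IsTranscendenceBasis K a)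
    (ht1 : IsTranscendenceBasis K1 (algebraMap Kx L1 ∘ t)) {M : Type u} [Field M] [IsAlgClosed M]
    [Algebra Kx M] [Algebra K M] [IsScalarTower K Kx M] (z : A → M) (hz : AlgebraicIndependent Kx z)
    (S : Subalgebra K M) (hS : range z ⊆ S) :
    ∃ φ : L1 →ₐ[Kx] M, ∀ c : K1, IsAlgebraic S (φ (algebraMap K1 L1 c)) := by
  have hb := isTranscendenceBasis_swap ht ha ht1
  let R := Algebra.adjoin Kx (range (algebraMap K1 L1 ∘ a))
  let g : R →ₐ[Kx] M := (MvPolynomial.aeval z).comp hb.1.aevalEquiv.symm.toAlgHom
  have hg : Injective g :=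
    Function.Injective.comp (g := MvPolynomial.aeval z) hz hb.1.aevalEquiv.symm.injective
  letI := g.toRingHom.toAlgebra
  haveI : FaithfulSMul R M := (faithfulSMul_iff_algebraMap_injective R M).mpr hg
  haveI : IsScalarTower Kx R M := IsScalarTower.of_algebraMap_eq fun c => (g.commutes c).symm
  haveI := hb.isAlgebraic
  let φ : L1 →ₐ[R] M := IsAlgClosed.lift
  refine ⟨φ.restrictScalars Kx, fun c => ?_⟩
  have hφa : ∀ i, φ (algebraMap K1 L1 (a i)) = z i := fun i => by
    have h : (⟨algebraMap K1 L1 (a i), Algebra.subset_adjoin (mem_range_self i)⟩ : R)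
        = hb.1.aevalEquiv (X i) := Subtype.ext (by simp)
    rw [show algebraMap K1 L1 (a i) = algebraMap R L1 (hb.1.aevalEquiv (X i)) from
      congr_arg Subtype.val h, φ.commutes]
    show MvPolynomial.aeval z (hb.1.aevalEquiv.symm (hb.1.aevalEquiv (X i))) = z i
    simp
  let f : K1 →ₐ[K] M :=
    ((φ.restrictScalars Kx).restrictScalars K).comp (IsScalarTower.toAlgHom K K1 L1)
  refine isAlgebraic_map f (Algebra.adjoin K (range a)) S (fun x hx => ?_)
    (ha.isAlgebraic.isAlgebraic c)
  have h : f x ∈ (Algebra.adjoin K (range a)).map f := ⟨_, hx, rfl⟩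
  rw [← Algebra.adjoin_image] at h
  refine Algebra.adjoin_le ?_ h
  rintro _ ⟨_, ⟨i, rfl⟩, rfl⟩
  exact hS ⟨i, (hφa i).symm⟩

variable {K2 L2 : Type u} [Field K2] [Field L2] [Algebra K K2]
  [Algebra Kx L2] [Algebra K2 L2] [Algebra K L2] [IsScalarTower K Kx L2] [IsScalarTower K K2 L2]

/-- Free amalgam: embeddings agreeing on `Kx`, with the images of `K1` and `K2` inside a subfield over which
the transcendence basis `t` of `Kx/K` stays independent. -/
theorem exists_free_amalgam (ht : IsTranscendenceBasis K t)
    (ht1 : IsTranscendenceBasis K1 (algebraMap Kx L1 ∘ t))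
    (ht2 : IsTranscendenceBasis K2 (algebraMap Kx L2 ∘ t)) :
    ∃ (M : Type u) (_ : Field M) (φ1 : L1 →+* M) (φ2 : L2 →+* M) (E : Subfield M),
      φ1.comp (algebraMap Kx L1) = φ2.comp (algebraMap Kx L2) ∧
      (∀ c, φ1 (algebraMap K1 L1 c) ∈ E) ∧ (∀ c, φ2 (algebraMap K2 L2 c) ∈ E) ∧
      AlgebraicIndependent E (φ1 ∘ algebraMap Kx L1 ∘ t) := by
  obtain ⟨A, a, ha⟩ := exists_isTranscendenceBasis' K K1
  obtain ⟨B, b, hb⟩ := exists_isTranscendenceBasis' K K2
  let P := MvPolynomial (A ⊕ B) Kx
  let M := AlgebraicClosure (FractionRing P)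
  let z : A ⊕ B → M := fun i => algebraMap P M (X i)
  have hinj : Injective (algebraMap P M) := by
    rw [IsScalarTower.algebraMap_eq P (FractionRing P) M]
    exact (algebraMap (FractionRing P) M).injective.comp (IsFractionRing.injective P (FractionRing P))
  have hz : AlgebraicIndependent Kx z :=
    (algebraicIndependent_X (A ⊕ B) Kx).map' (f := IsScalarTower.toAlgHom Kx P M) hinj
  let S := Algebra.adjoin K (range z)
  obtain ⟨φ1, h1⟩ := exists_embedding ht ha ht1 (z ∘ Sum.inl) (hz.comp _ Sum.inl_injective) S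
    ((range_comp_subset_range _ _).trans Algebra.subset_adjoin)
  obtain ⟨φ2, h2⟩ := exists_embedding ht hb ht2 (z ∘ Sum.inr) (hz.comp _ Sum.inr_injective) S
    ((range_comp_subset_range _ _).trans Algebra.subset_adjoin)
  let C := Subalgebra.algebraicClosure S M
  let E : Subfield M :=
    { C.toSubring with inv_mem' := fun x (hx : IsAlgebraic S x) => hx.inv }
  refine ⟨M, inferInstance, φ1.toRingHom, φ2.toRingHom, E, ?_, h1, h2, ?_⟩
  · ext c; exact (φ1.commutes c).trans (φ2.commutes c).symm
  have hT : φ1.toRingHom ∘ algebraMap Kx L1 ∘ t = algebraMap Kx M ∘ t :=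
    funext fun i => φ1.commutes (t i)
  rw [hT]
  have hsum : AlgebraicIndependent K (Sum.elim z (algebraMap Kx M ∘ t)) := ht.1.sumElim_comp hz
  have hswap : AlgebraicIndependent K (Sum.elim (algebraMap Kx M ∘ t) z) := by
    have := hsum.comp (Equiv.sumComm _ _) (Equiv.sumComm _ _).injective
    convert this using 1
    funext i; cases i <;> rfl
  have hS := (AlgebraicIndependent.sumElim_iff.mp hswap).2
  haveI : Algebra.IsAlgebraic S C := ⟨fun x => (isAlgebraic_algHom_iff C.val Subtype.val_injective).mp x.2⟩
  have hC : AlgebraicIndependent C (algebraMap Kx M ∘ t) := hS.extendScalars C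
  let f : E →+* C := RingHom.codRestrict E.subtype C fun x => x.2
  have hf : Injective f := fun x y h => Subtype.ext (congr_arg Subtype.val h :)
  exact AlgebraicIndependent.of_ringHom_of_comp_eq (f := f) (g := RingHom.id M) hC hf
    (RingHom.ext fun w => rfl)

end Groth.Agent.H25Trdeg
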